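import Groth.Agent.HopfPt96.Extend

/-!
A comodule algebra over a commutative Hopf algebra which is a torsor has a rational point, over an
algebraically closed field and without any finiteness assumption.
-/

universe u v w

open TensorProduct

set_option autoImplicit false

noncomputable section

namespace Groth.Agent.HopfPt96

open Groth.Agent.Comod33 Groth.Agent.Comod33.SubHopf

/-- A point with proper extended kernel extends to a larger finitely generated subalgebra. -/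
theorem exists_extend_adjoin {K : Type u} [Field K] [IsAlgClosed K] {A : Type v} [CommRing A]
    [Algebra K A] {S T : Subalgebra K A} (hle : S ≤ T) (t : Finset A)
    (hT : T = S ⊔ Algebra.adjoin K (t : Set A)) (g : S →ₐ[K] K)
    (hne : (RingHom.ker g).map S.val ≠ ⊤) :
    ∃ g' : T →ₐ[K] K, g'.comp (Subalgebra.inclusion hle) = g := by
  let S' : Subalgebra K T := S.comap T.val
  let e : S' →ₐ[K] S := (T.val.comp S'.val).codRestrict S fun b => b.2
  let g₁ : S' →ₐ[K] K := g.comp e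
  have hne' : (RingHom.ker g₁).map S'.val ≠ ⊤ := by
    intro hJ
    apply hne
    rw [← top_le_iff, ← Ideal.map_top T.val, ← hJ, Ideal.map_le_iff_le_comap,
      Ideal.map_le_iff_le_comap]
    intro b hb
    exact Ideal.mem_map_of_mem S.val (show e b ∈ RingHom.ker g from hb)
  have htT : (t : Set A) ⊆ T := fun x hx =>
    hT ▸ (le_sup_right (a := S) (b := Algebra.adjoin K (t : Set A))) (Algebra.subset_adjoin hx)
  have hgen : S' ⊔ Algebra.adjoin K (Subtype.val ⁻¹' (t : Set A) : Set T) = ⊤ := by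
    apply Subalgebra.map_injective (f := T.val) Subtype.val_injective
    rw [Algebra.map_sup, AlgHom.map_adjoin, Algebra.map_top]
    show Subalgebra.map T.val (S.comap T.val) ⊔ Algebra.adjoin K (Subtype.val '' _) = T.val.range
    rw [Subalgebra.range_val, Set.image_preimage_eq_inter_range,
      show Set.range (Subtype.val : T → A) = ↑T from Subtype.range_val,
      Set.inter_eq_left.2 htT]
    have e1 : Subalgebra.map T.val (S.comap T.val) = S := by
      ext x
      exact ⟨fun ⟨y, hy, hyx⟩ => hyx ▸ hy, fun hx => ⟨⟨x, hle hx⟩, hx, rfl⟩⟩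
    rw [e1, ← hT]
  obtain ⟨h, hh⟩ := exists_point_of_span g₁ _
    (t.finite_toSet.preimage Subtype.val_injective.injOn) hgen hne'
  exact ⟨h, AlgHom.ext fun b => DFunLike.congr_fun hh ⟨⟨b, hle b.2⟩, b.2⟩⟩

/-- A torsor comodule algebra. -/
structure TorsorAlg (k : Type u) [Field k] (H : Type v) [CommRing H] [HopfAlgebra k H]
    (A : Type w) [CommRing A] [Algebra k A] where
  /-- the coaction -/
  ρ : A →ₐ[k] H ⊗[k] A
  coassoc : ∀ a, Algebra.TensorProduct.map (AlgHom.id k H) ρ (ρ a) =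
    Algebra.TensorProduct.assoc k k k H H A
      (Algebra.TensorProduct.map (Bialgebra.comulAlgHom k H) (AlgHom.id k A) (ρ a))
  bij : Function.Bijective (Algebra.TensorProduct.productMap ρ Algebra.TensorProduct.includeRight)

namespace TorsorAlg

variable {k : Type u} [Field k] {H : Type v} [CommRing H] [HopfAlgebra k H]
  {A : Type w} [CommRing A] [Algebra k A] (T : TorsorAlg k H A)

/-- the translation isomorphism -/
def θ : A ⊗[k] A ≃ₐ[k] H ⊗[k] A :=
  AlgEquiv.ofBijective (Algebra.TensorProduct.productMap T.ρ Algebra.TensorProduct.includeRight) T.bij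

theorem θ_tmul (a b : A) : T.θ (a ⊗ₜ[k] b) = T.ρ a * ((1 : H) ⊗ₜ[k] b) := by
  simp [θ]

theorem θ_symm_one_tmul (b : A) : T.θ.symm ((1 : H) ⊗ₜ[k] b) = (1 : A) ⊗ₜ[k] b := by
  rw [AlgEquiv.symm_apply_eq, T.θ_tmul, map_one, one_mul]

theorem θ_comp : ((Algebra.TensorProduct.map (AlgHom.id k H) (T.θ : A ⊗[k] A →ₐ[k] H ⊗[k] A)).comp
      ((Algebra.TensorProduct.assoc k k k H A A : (H ⊗[k] A) ⊗[k] A →ₐ[k] _).comp
        (Algebra.TensorProduct.map T.ρ (AlgHom.id k A)))) =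
    (Algebra.TensorProduct.assoc k k k H H A : (H ⊗[k] H) ⊗[k] A →ₐ[k] _).comp
      ((Algebra.TensorProduct.map (Bialgebra.comulAlgHom k H) (AlgHom.id k A)).comp
        (T.θ : A ⊗[k] A →ₐ[k] H ⊗[k] A)) := by
  refine Algebra.TensorProduct.ext ?_ ?_
  · refine AlgHom.ext fun a => ?_
    have h1 : ∀ z : H ⊗[k] A,
        Algebra.TensorProduct.map (AlgHom.id k H) (T.θ : A ⊗[k] A →ₐ[k] H ⊗[k] A)
          (Algebra.TensorProduct.assoc k k k H A A (z ⊗ₜ[k] (1 : A))) =
        Algebra.TensorProduct.map (AlgHom.id k H) T.ρ z := by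
      intro z
      induction z with
      | zero => simp
      | tmul p q => simp [T.θ_tmul, ← Algebra.TensorProduct.one_def]
      | add p q hp hq => simp only [TensorProduct.add_tmul, map_add, hp, hq]
    show Algebra.TensorProduct.map (AlgHom.id k H) (T.θ : A ⊗[k] A →ₐ[k] H ⊗[k] A)
      (Algebra.TensorProduct.assoc k k k H A A (T.ρ a ⊗ₜ[k] (1 : A))) = _
    rw [h1, T.coassoc]
    show _ = Algebra.TensorProduct.assoc k k k H H A
      (Algebra.TensorProduct.map _ _ (T.θ (a ⊗ₜ[k] (1 : A))))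
    rw [T.θ_tmul, ← Algebra.TensorProduct.one_def, mul_one]
  · refine AlgHom.ext fun b => ?_
    show Algebra.TensorProduct.map (AlgHom.id k H) (T.θ : A ⊗[k] A →ₐ[k] H ⊗[k] A)
      (Algebra.TensorProduct.assoc k k k H A A (T.ρ 1 ⊗ₜ[k] b)) =
      Algebra.TensorProduct.assoc k k k H H A
      (Algebra.TensorProduct.map _ _ (T.θ ((1 : A) ⊗ₜ[k] b)))
    simp [T.θ_tmul, Algebra.TensorProduct.one_def]

/-- the inclusion of `B ⊗ A` -/
abbrev jB (B : Subalgebra k H) : B ⊗[k] A →ₐ[k] H ⊗[k] A :=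
  Algebra.TensorProduct.map B.val (AlgHom.id k A)

/-- the functions invariant under the kernel of `Spec H → Spec B` -/
def inv (B : Subalgebra k H) : Subalgebra k A := (jB (A := A) B).range.comap T.ρ

theorem jB_mono {B B' : Subalgebra k H} (h : B ≤ B') :
    (jB (A := A) B).range ≤ (jB (A := A) B').range := by
  rintro _ ⟨z, rfl⟩
  refine ⟨Algebra.TensorProduct.map (Subalgebra.inclusion h) (AlgHom.id k A) z, ?_⟩
  induction z with
  | zero => simp
  | tmul p q => simp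
  | add p q hp hq => simp only [map_add, hp, hq]

theorem inv_mono {B B' : Subalgebra k H} (h : B ≤ B') : T.inv B ≤ T.inv B' :=
  fun _ ha => jB_mono h ha

/-- the inclusion of `S ⊗ A` -/
abbrev jA (S : Subalgebra k A) : S ⊗[k] A →ₐ[k] A ⊗[k] A :=
  Algebra.TensorProduct.map S.val (AlgHom.id k A)

theorem jA_injective (S : Subalgebra k A) : Function.Injective (jA S) :=
  map_injective (f := S.val.toLinearMap) (g := LinearMap.id) Subtype.val_injective fun _ _ h => h

theorem θ_symm_mem {B : Subalgebra k H} (hB : IsSubHopf B) (b : H) (hb : b ∈ B) :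
    T.θ.symm (b ⊗ₜ[k] (1 : A)) ∈ (jA (T.inv B)).range := by
  let Bm : Submodule k H := Subalgebra.toSubmodule B
  let Q : H ⊗[k] A →ₗ[k] (H ⧸ Bm) ⊗[k] A := Bm.mkQ.rTensor A
  let g : A →ₗ[k] (H ⧸ Bm) ⊗[k] A := Q ∘ₗ T.ρ.toLinearMap
  have hQ : Function.Exact (jB (A := A) B).toLinearMap Q :=
    rTensor_exact A (LinearMap.exact_subtype_mkQ Bm) Bm.mkQ_surjective
  have hg : Function.Exact (T.inv B).val.toLinearMap g := by
    intro a
    show Q (T.ρ a) = 0 ↔ _
    rw [hQ (T.ρ a)]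
    exact ⟨fun h => ⟨⟨a, h⟩, rfl⟩, fun ⟨⟨c, hc⟩, he⟩ => he ▸ hc⟩
  refine ((Module.Flat.rTensor_exact A hg) _).1 ?_
  -- the coaction of a translated function
  let E : H ⊗[k] H →ₗ[k] (H ⊗[k] A) ⊗[k] A :=
    (Algebra.TensorProduct.assoc k k k H A A).symm.toLinearMap ∘ₗ
      (Algebra.TensorProduct.map (AlgHom.id k H) (T.θ.symm : H ⊗[k] A →ₐ[k] A ⊗[k] A)).toLinearMap ∘ₗ
        (Algebra.TensorProduct.assoc k k k H H A).toLinearMap ∘ₗ (TensorProduct.mk k (H ⊗[k] H) A).flip 1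
  have key : (T.ρ.toLinearMap.rTensor A) (T.θ.symm (b ⊗ₜ[k] (1 : A))) =
      E (CoalgebraStruct.comul (R := k) b) := by
    have h : Algebra.TensorProduct.map (AlgHom.id k H) (T.θ : A ⊗[k] A →ₐ[k] H ⊗[k] A)
        (Algebra.TensorProduct.assoc k k k H A A
          (Algebra.TensorProduct.map T.ρ (AlgHom.id k A) (T.θ.symm (b ⊗ₜ[k] (1 : A))))) =
        Algebra.TensorProduct.assoc k k k H H A (CoalgebraStruct.comul (R := k) b ⊗ₜ[k] (1 : A)) := by
      refine (DFunLike.congr_fun T.θ_comp (T.θ.symm (b ⊗ₜ[k] (1 : A)))).trans ?_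
      show Algebra.TensorProduct.assoc k k k H H A
        (Algebra.TensorProduct.map _ _ (T.θ (T.θ.symm (b ⊗ₜ[k] (1 : A))))) = _
      rw [AlgEquiv.apply_symm_apply, Algebra.TensorProduct.map_tmul]
      rfl
    show _ = (Algebra.TensorProduct.assoc k k k H A A).symm
      (Algebra.TensorProduct.map (AlgHom.id k H) (T.θ.symm : H ⊗[k] A →ₐ[k] A ⊗[k] A)
        (Algebra.TensorProduct.assoc k k k H H A
          (CoalgebraStruct.comul (R := k) b ⊗ₜ[k] (1 : A))))
    rw [← h, AlgEquiv.eq_symm_apply]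
    generalize T.θ.symm (b ⊗ₜ[k] (1 : A)) = x
    show Algebra.TensorProduct.assoc k k k H A A
      (Algebra.TensorProduct.map T.ρ (AlgHom.id k A) x) = _
    generalize Algebra.TensorProduct.assoc k k k H A A
      (Algebra.TensorProduct.map T.ρ (AlgHom.id k A) x) = y
    induction y with
    | zero => simp
    | tmul p q => simp
    | add p q hp hq => simp only [map_add, ← hp, ← hq]
  show (Q ∘ₗ T.ρ.toLinearMap).rTensor A _ = 0
  rw [LinearMap.rTensor_comp_apply, key]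
  obtain ⟨z, hz⟩ := hB.1 b hb
  rw [← hz]
  clear hz
  induction z with
  | zero => simp
  | add p q hp hq => simp only [map_add, hp, hq, add_zero]
  | tmul p q =>
    simp only [E, LinearMap.comp_apply, LinearMap.flip_apply, TensorProduct.map_tmul,
      TensorProduct.mk_apply]
    show Q.rTensor A ((Algebra.TensorProduct.assoc k k k H A A).symm
      (Algebra.TensorProduct.map (AlgHom.id k H) (T.θ.symm : H ⊗[k] A →ₐ[k] A ⊗[k] A)
        (Algebra.TensorProduct.assoc k k k H H A (((p : H) ⊗ₜ[k] (q : H)) ⊗ₜ[k] (1 : A))))) = 0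
    rw [Algebra.TensorProduct.assoc_tmul, Algebra.TensorProduct.map_tmul, AlgHom.id_apply]
    generalize (T.θ.symm : H ⊗[k] A →ₐ[k] A ⊗[k] A) ((q : H) ⊗ₜ[k] (1 : A)) = w
    induction w with
    | zero => simp
    | add x y hx hy => simp only [TensorProduct.tmul_add, map_add, hx, hy, add_zero]
    | tmul x y =>
      rw [Algebra.TensorProduct.assoc_symm_tmul, LinearMap.rTensor_tmul]
      show (Bm.mkQ.rTensor A ((p : H) ⊗ₜ[k] x)) ⊗ₜ[k] y = 0
      rw [LinearMap.rTensor_tmul, Submodule.mkQ_apply, (Submodule.Quotient.mk_eq_zero Bm).2 p.2,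
        TensorProduct.zero_tmul, TensorProduct.zero_tmul]

theorem θ_symm_range_le {B : Subalgebra k H} (hB : IsSubHopf B) :
    ((T.θ.symm : H ⊗[k] A →ₐ[k] A ⊗[k] A).comp (jB B)).range ≤ (jA (T.inv B)).range := by
  rintro _ ⟨z, rfl⟩
  induction z with
  | zero => simp
  | add p q hp hq =>
    simp only [map_add]
    exact add_mem hp hq
  | tmul p q =>
    show T.θ.symm ((p : H) ⊗ₜ[k] q) ∈ _
    rw [show (p : H) ⊗ₜ[k] q = ((p : H) ⊗ₜ[k] (1 : A)) * ((1 : H) ⊗ₜ[k] q) by simp,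
      map_mul, T.θ_symm_one_tmul]
    exact mul_mem (T.θ_symm_mem hB p p.2) ⟨1 ⊗ₜ[k] q, by simp⟩

/-- the inverse translation on invariant functions -/
def transl {B : Subalgebra k H} (hB : IsSubHopf B) : B ⊗[k] A →ₐ[k] (T.inv B) ⊗[k] A :=
  (AlgEquiv.ofInjective (jA (T.inv B)) (jA_injective _)).symm.toAlgHom.comp
    (((T.θ.symm : H ⊗[k] A →ₐ[k] A ⊗[k] A).comp (jB B)).codRestrict _
      fun z => T.θ_symm_range_le hB ⟨z, rfl⟩)

theorem jA_transl {B : Subalgebra k H} (hB : IsSubHopf B) (z : B ⊗[k] A) :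
    jA (T.inv B) (T.transl hB z) = T.θ.symm (jB B z) :=
  congrArg Subtype.val (AlgEquiv.apply_symm_apply
    (AlgEquiv.ofInjective (jA (T.inv B)) (jA_injective _))
    (((T.θ.symm : H ⊗[k] A →ₐ[k] A ⊗[k] A).comp (jB B)).codRestrict _
      (fun z => T.θ_symm_range_le hB ⟨z, rfl⟩) z))

/-- A point of the invariants generates a proper ideal. -/
theorem map_ker_ne_top [Nontrivial A] {B : Subalgebra k H} (hB : IsSubHopf B)
    (g : T.inv B →ₐ[k] k) : (RingHom.ker g).map (T.inv B).val ≠ ⊤ := by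
  have : Module.FaithfullyFlat B H := HopfFlat.faithfullyFlat_of_isSubHopf hB
  let ε : (T.inv B) ⊗[k] A →ₐ[k] A :=
    Algebra.TensorProduct.lift ((Algebra.ofId k A).comp g) (AlgHom.id k A) fun _ _ => Commute.all _ _
  let β : B →ₐ[k] A := ε.comp ((T.transl hB).comp Algebra.TensorProduct.includeLeft)
  letI : Algebra B A := β.toRingHom.toAlgebra
  haveI : IsScalarTower k B A := IsScalarTower.of_algebraMap_eq fun c => (β.commutes c).symm
  let R := H ⊗[B] A
  have : Nontrivial R := (Module.FaithfullyFlat.nontrivial_tensorProduct_iff_right (R := B) (M := H) (N := A)).2 ‹_›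
  let iR : A →ₐ[k] R :=
    (Algebra.TensorProduct.includeRight : A →ₐ[B] R).restrictScalars k
  let Φ : H ⊗[k] A →ₐ[k] R :=
    Algebra.TensorProduct.lift (Algebra.TensorProduct.includeLeft : H →ₐ[k] R) iR
      fun _ _ => Commute.all _ _
  have hΦ : Φ.comp (jB B) = iR.comp (ε.comp (T.transl hB)) := by
    refine Algebra.TensorProduct.ext ?_ ?_
    · refine AlgHom.ext fun b => ?_
      show Φ ((b : H) ⊗ₜ[k] (1 : A)) = iR (β b)
      rw [show Φ ((b : H) ⊗ₜ[k] (1 : A)) = ((b : H) ⊗ₜ[B] (1 : A)) by simp [Φ, iR, ← Algebra.TensorProduct.one_def]; rfl]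
      show (b : H) ⊗ₜ[B] (1 : A) = (1 : H) ⊗ₜ[B] (algebraMap B A b)
      rw [show (b : H) = b • (1 : H) by rw [Algebra.smul_def, mul_one]; rfl, TensorProduct.smul_tmul,
        Algebra.smul_def, mul_one]
    · refine AlgHom.ext fun a => ?_
      show Φ ((1 : H) ⊗ₜ[k] a) = iR (ε (T.transl hB ((1 : B) ⊗ₜ[k] a)))
      rw [show T.transl hB ((1 : B) ⊗ₜ[k] a) = (1 : T.inv B) ⊗ₜ[k] a from
        jA_injective _ (by rw [T.jA_transl]; simp [T.θ_symm_one_tmul])]
      simp [Φ, ε, iR]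
  let y : A →ₐ[k] R := Φ.comp T.ρ
  intro htop
  have hy : ∀ a : T.inv B, y (a : A) = algebraMap k R (g a) := by
    intro a
    obtain ⟨z, hz⟩ := (a.2 : T.ρ a ∈ (jB (A := A) B).range)
    have h1 : T.transl hB z = a ⊗ₜ[k] (1 : A) := by
      apply jA_injective
      rw [T.jA_transl, AlgEquiv.symm_apply_eq]
      show jB B z = T.θ ((a : A) ⊗ₜ[k] (1 : A))
      rw [T.θ_tmul, ← Algebra.TensorProduct.one_def, mul_one]
      exact hz
    show Φ (T.ρ a) = _
    rw [← (show jB B z = T.ρ a from hz)]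
    refine (DFunLike.congr_fun hΦ z).trans ?_
    show iR (ε (T.transl hB z)) = _
    rw [h1]
    simp [ε]
  have : (⊤ : Ideal R) ≤ ⊥ := by
    rw [← Ideal.map_top y, ← htop, Ideal.map_le_iff_le_comap, Ideal.map_le_iff_le_comap]
    intro a ha
    show y (a : A) ∈ (⊥ : Ideal R)
    rw [hy, show g a = 0 from ha, map_zero]
    exact Ideal.zero_mem _
  exact bot_ne_top (α := Ideal R) (le_antisymm bot_le this)

/-- Invariants of a finitely generated extension are finitely generated over the smaller ones. -/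
theorem exists_finset_inv [Nontrivial A] {B C : Subalgebra k H} (hB : IsSubHopf B)
    (hBC : IsSubHopf (B ⊔ C)) (hC : C.FG) :
    ∃ t : Finset A, T.inv (B ⊔ C) = T.inv B ⊔ Algebra.adjoin k (t : Set A) := by
  classical
  obtain ⟨c, rfl⟩ := hC
  have hsp : ∀ x : H, ∃ u : Finset A, x ∈ B ⊔ Algebra.adjoin k (c : Set H) →
      (u : Set A) ⊆ T.inv (B ⊔ Algebra.adjoin k (c : Set H)) ∧
      T.θ.symm (x ⊗ₜ[k] (1 : A)) ∈ (jA (Algebra.adjoin k (u : Set A))).range := by
    intro x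
    by_cases hx : x ∈ B ⊔ Algebra.adjoin k (c : Set H)
    · obtain ⟨z, hz⟩ := T.θ_symm_mem hBC x hx
      obtain ⟨S, hS⟩ := TensorProduct.exists_finset z
      refine ⟨S.image fun i => (i.1 : A), fun _ => ⟨?_, ?_⟩⟩
      · intro a ha
        rw [Finset.coe_image] at ha
        obtain ⟨i, -, rfl⟩ := ha
        exact i.1.2
      · rw [← hz, hS, map_sum]
        refine sum_mem fun i hi => ?_
        exact ⟨⟨(i.1 : A), Algebra.subset_adjoin (Finset.mem_image_of_mem _ hi)⟩ ⊗ₜ[k] i.2, by simp⟩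
    · exact ⟨∅, fun h => absurd h hx⟩
  choose u hu using hsp
  let t := c.biUnion u
  let S := T.inv B ⊔ Algebra.adjoin k (t : Set A)
  have hcmem : ∀ x ∈ c, x ∈ B ⊔ Algebra.adjoin k (c : Set H) := fun x hx =>
    (le_sup_right (a := B)) (Algebra.subset_adjoin hx)
  refine ⟨t, le_antisymm ?_ (sup_le (T.inv_mono le_sup_left) (Algebra.adjoin_le ?_))⟩
  swap
  · intro a ha
    obtain ⟨x, hx, hax⟩ := Finset.mem_biUnion.1 ha
    exact (hu x (hcmem x hx)).1 hax
  -- everything translated lands in `S ⊗ A`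
  have hS : B ⊔ Algebra.adjoin k (c : Set H) ≤
      (jA S).range.comap ((T.θ.symm : H ⊗[k] A →ₐ[k] A ⊗[k] A).comp Algebra.TensorProduct.includeLeft) := by
    have hmono : ∀ {S₁ : Subalgebra k A}, S₁ ≤ S → (jA S₁).range ≤ (jA S).range := by
      intro S₁ h
      rintro _ ⟨z, rfl⟩
      refine ⟨Algebra.TensorProduct.map (Subalgebra.inclusion h) (AlgHom.id k A) z, ?_⟩
      induction z with
      | zero => simp
      | tmul p q => simp
      | add p q hp hq => simp only [map_add, hp, hq]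
    refine sup_le (fun b hb => hmono le_sup_left (T.θ_symm_mem hB b hb))
      (Algebra.adjoin_le fun x hx => ?_)
    refine hmono ((Algebra.adjoin_mono ?_).trans le_sup_right) (hu x (hcmem x hx)).2
    exact fun a ha => Finset.mem_biUnion.2 ⟨x, hx, ha⟩
  intro a ha
  obtain ⟨z, hz⟩ := (ha : T.ρ a ∈ (jB (A := A) (B ⊔ Algebra.adjoin k (c : Set H))).range)
  have h1 : a ⊗ₜ[k] (1 : A) ∈ (jA S).range := by
    rw [show a ⊗ₜ[k] (1 : A) = T.θ.symm (jB (A := A) (B ⊔ Algebra.adjoin k (c : Set H)) z) by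
      rw [AlgEquiv.eq_symm_apply, T.θ_tmul, ← Algebra.TensorProduct.one_def, mul_one]; exact hz.symm]
    clear hz
    induction z with
    | zero => simp
    | add p q hp hq =>
      simp only [map_add]
      exact add_mem hp hq
    | tmul p q =>
      show T.θ.symm ((p : H) ⊗ₜ[k] q) ∈ _
      rw [show (p : H) ⊗ₜ[k] q = ((p : H) ⊗ₜ[k] (1 : A)) * ((1 : H) ⊗ₜ[k] q) by simp,
        map_mul, T.θ_symm_one_tmul]
      exact mul_mem (hS p.2) ⟨1 ⊗ₜ[k] q, by simp⟩
  -- descend along the field extension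
  let Sm : Submodule k A := Subalgebra.toSubmodule S
  have h2 : (Sm.mkQ a) ⊗ₜ[k] (1 : A) = 0 :=
    ((rTensor_exact A (LinearMap.exact_subtype_mkQ Sm) Sm.mkQ_surjective) (a ⊗ₜ[k] (1 : A))).2 h1
  have h3 : Sm.mkQ a = 0 := by
    obtain ⟨φ, hφ⟩ := LinearMap.exists_leftInverse_of_injective
      (LinearMap.toSpanSingleton k A 1) (LinearMap.ker_toSpanSingleton k one_ne_zero)
    have hφ1 : φ 1 = 1 := by
      have := DFunLike.congr_fun hφ 1
      simpa using this
    have := congrArg (fun v => TensorProduct.rid k _ (φ.lTensor _ v)) h2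
    simpa [hφ1] using this
  exact (Submodule.Quotient.mk_eq_zero Sm).1 h3

/-- A partial point of the torsor. -/
structure PPoint where
  /-- the sub-Hopf algebra -/
  B : Subalgebra k H
  /-- the point -/
  f : T.inv B →ₐ[k] k
  isSub : IsSubHopf B

/-- extension of partial points -/
def PPLe (p q : PPoint T) : Prop :=
  ∃ h : p.B ≤ q.B, q.f.comp (Subalgebra.inclusion (T.inv_mono h)) = p.f

variable {T} in
theorem PPLe.trans {p q s : PPoint T} : T.PPLe p q → T.PPLe q s → T.PPLe p s := by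
  rintro ⟨h, e⟩ ⟨h', e'⟩
  refine ⟨h.trans h', ?_⟩
  rw [← e, ← e']
  rfl

theorem inv_iSup {ι : Type*} [Nonempty ι] (B : ι → Subalgebra k H) (hB : Directed (· ≤ ·) B) :
    T.inv (⨆ i, B i) ≤ ⨆ i, T.inv (B i) := by
  intro a ha
  have key : ∀ z : ↥(⨆ i, B i) ⊗[k] A, ∃ i, jB (⨆ i, B i) z ∈ (jB (A := A) (B i)).range := by
    intro z
    induction z with
    | zero => exact ⟨Classical.arbitrary ι, by simp⟩
    | add p q hp hq =>
      obtain ⟨i, hi⟩ := hp
      obtain ⟨j, hj⟩ := hq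
      obtain ⟨l, hil, hjl⟩ := hB i j
      exact ⟨l, by rw [map_add]; exact add_mem (jB_mono hil hi) (jB_mono hjl hj)⟩
    | tmul p q =>
      have hp : (p : H) ∈ ((⨆ i, B i : Subalgebra k H) : Set H) := p.2
      rw [Subalgebra.coe_iSup_of_directed hB, Set.mem_iUnion] at hp
      obtain ⟨i, hi⟩ := hp
      exact ⟨i, ⟨⟨(p : H), hi⟩ ⊗ₜ[k] q, by simp⟩⟩
  obtain ⟨z, hz⟩ := ha
  obtain ⟨i, hi⟩ := key z
  exact le_iSup (fun i => T.inv (B i)) i (show T.ρ a ∈ _ from hz ▸ hi)

theorem exists_ppupper (c : Set (PPoint T)) (hc : IsChain T.PPLe c) (hne : c.Nonempty) :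
    ∃ u : PPoint T, ∀ p ∈ c, T.PPLe p u := by
  have : Nonempty c := hne.to_subtype
  have hdir : Directed (· ≤ ·) (fun p : c => p.1.B) := by
    intro p q
    rcases eq_or_ne p q with rfl | hpq
    · exact ⟨p, le_rfl, le_rfl⟩
    rcases hc p.2 q.2 (fun e => hpq (Subtype.ext e)) with ⟨h, -⟩ | ⟨h, -⟩
    · exact ⟨q, h, le_rfl⟩
    · exact ⟨p, le_rfl, h⟩
  have hdir' : Directed (· ≤ ·) (fun p : c => T.inv p.1.B) := fun p q => by
    obtain ⟨r, h1, h2⟩ := hdir p q
    exact ⟨r, T.inv_mono h1, T.inv_mono h2⟩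
  have hagree : ∀ (p q : c) (h : T.inv p.1.B ≤ T.inv q.1.B),
      p.1.f = q.1.f.comp (Subalgebra.inclusion h) := by
    intro p q h
    rcases eq_or_ne p q with rfl | hpq
    · rfl
    rcases hc p.2 q.2 (fun e => hpq (Subtype.ext e)) with ⟨h', e⟩ | ⟨h', e⟩
    · exact e.symm
    · ext z
      rw [← e]
      rfl
  let f : T.inv (⨆ p : c, p.1.B) →ₐ[k] k :=
    Subalgebra.iSupLift (fun p : c => T.inv p.1.B) hdir' (fun p => p.1.f) hagree _ (T.inv_iSup _ hdir)
  refine ⟨⟨_, f, isSubHopf_iSup _ fun p : c => p.1.isSub⟩, fun p hp =>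
    ⟨le_iSup (fun p : c => p.1.B) ⟨p, hp⟩, AlgHom.ext fun z => ?_⟩⟩
  exact Subalgebra.iSupLift_inclusion (R := k) (A := A) (B := k) (K := fun p : c => T.inv p.1.B)
    (dir := hdir') (f := fun p : c => p.1.f) (hf := hagree) (hT := T.inv_iSup _ hdir)
    (i := ⟨p, hp⟩) z (T.inv_mono (le_iSup (fun p : c => p.1.B) ⟨p, hp⟩))

theorem exists_point_bot [Nontrivial A] :
    ∃ B : Subalgebra k H, IsSubHopf B ∧ Nonempty (T.inv B →ₐ[k] k) := by
  let B : Subalgebra k H := ⊥
  have hB : IsSubHopf B := by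
    have h0 : (⨆ i : Empty, (i.elim : Subalgebra k H)) = B := iSup_of_empty _
    exact h0 ▸ isSubHopf_iSup _ fun i => i.elim
  refine ⟨B, hB, ⟨(Algebra.botEquiv k A).toAlgHom.comp (Subalgebra.inclusion fun a ha => ?_)⟩⟩
  obtain ⟨z, hz⟩ := (ha : T.ρ a ∈ (jB (A := A) B).range)
  have h1 : ∀ z : B ⊗[k] A, ∃ a' : A, jB B z = (1 : H) ⊗ₜ[k] a' := by
    intro z
    induction z with
    | zero => exact ⟨0, by simp⟩
    | add p q hp hq =>
      obtain ⟨x, hx⟩ := hp
      obtain ⟨y, hy⟩ := hq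
      exact ⟨x + y, by rw [map_add, hx, hy, TensorProduct.tmul_add]⟩
    | tmul p q =>
      obtain ⟨r, hr⟩ := Algebra.mem_bot.1 p.2
      refine ⟨r • q, ?_⟩
      rw [Algebra.TensorProduct.map_tmul, AlgHom.id_apply, Subalgebra.coe_val, ← hr,
        Algebra.algebraMap_eq_smul_one, TensorProduct.smul_tmul]
  obtain ⟨a', ha'⟩ := h1 z
  have h2 : a ⊗ₜ[k] (1 : A) = (1 : A) ⊗ₜ[k] a' := by
    rw [← T.θ_symm_one_tmul, ← ha', show jB B z = T.ρ a from hz, AlgEquiv.eq_symm_apply, T.θ_tmul,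
      ← Algebra.TensorProduct.one_def, mul_one]
  obtain ⟨φ, hφ⟩ := LinearMap.exists_leftInverse_of_injective
    (LinearMap.toSpanSingleton k A 1) (LinearMap.ker_toSpanSingleton k one_ne_zero)
  have hφ1 : φ 1 = 1 := by
    have := DFunLike.congr_fun hφ 1
    simpa using this
  have h3 := congrArg (fun v => TensorProduct.rid k _ (φ.lTensor _ v)) h2
  simp [hφ1] at h3
  rw [h3]
  exact Algebra.mem_bot.2 ⟨φ a', (Algebra.algebraMap_eq_smul_one _)⟩

include T in
/-- A torsor has a rational point. -/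
theorem exists_point [IsAlgClosed k] [Nontrivial A] : Nonempty (A →ₐ[k] k) := by
  obtain ⟨B₀, hB₀, ⟨f₀⟩⟩ := T.exists_point_bot
  let p₀ : PPoint T := ⟨B₀, f₀, hB₀⟩
  obtain ⟨⟨⟨B, f, hB⟩, h0⟩, hmax⟩ := exists_maximal_of_chains_bounded
    (r := fun p q : {p : PPoint T // T.PPLe p₀ p} => T.PPLe p.1 q.1) (fun c hc => by
      rcases c.eq_empty_or_nonempty with rfl | hne
      · exact ⟨⟨p₀, le_rfl, rfl⟩, fun a ha => ha.elim⟩
      · obtain ⟨u, hu⟩ := T.exists_ppupper (Subtype.val '' c)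
          (fun _ ⟨a, ha, hax⟩ _ ⟨b, hb, hby⟩ hxy =>
            hax ▸ hby ▸ hc ha hb (fun e => hxy (by rw [← hax, ← hby, e])))
          (hne.image _)
        obtain ⟨p₁, hp₁⟩ := hne
        exact ⟨⟨u, PPLe.trans p₁.2 (hu _ ⟨p₁, hp₁, rfl⟩)⟩, fun a ha => hu _ ⟨a, ha, rfl⟩⟩)
    (fun h h' => PPLe.trans h h')
  have hBtop : B = ⊤ := by
    rw [eq_top_iff]
    intro x _
    obtain ⟨C, hC, hCfg, hC1, hC2⟩ := SGA3a.exists_fg_hopfSubalgebra (k := k) ({x} : Finset H)
    have hBC : IsSubHopf (B ⊔ C) := isSubHopf_sup hB ⟨hC1, hC2⟩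
    obtain ⟨t, ht⟩ := T.exists_finset_inv hB hBC hCfg
    obtain ⟨f', hf'⟩ := exists_extend_adjoin (T.inv_mono le_sup_left) t ht f (T.map_ker_ne_top hB f)
    let q : PPoint T := ⟨B ⊔ C, f', hBC⟩
    have hBq : T.PPLe ⟨B, f, hB⟩ q := ⟨le_sup_left, hf'⟩
    obtain ⟨hle, -⟩ := hmax ⟨q, PPLe.trans h0 hBq⟩ hBq
    exact hle (le_sup_right (a := B) (b := C) (hC (by simp)))
  subst hBtop
  have htop : ∀ a, a ∈ T.inv (⊤ : Subalgebra k H) := by
    intro a
    refine ⟨Algebra.TensorProduct.map (Subalgebra.topEquiv (R := k) (A := H)).symm.toAlgHom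
      (AlgHom.id k A) (T.ρ a), ?_⟩
    show jB (A := A) (⊤ : Subalgebra k H) (Algebra.TensorProduct.map _ _ (T.ρ a)) = T.ρ a
    generalize T.ρ a = z
    induction z with
    | zero => simp
    | tmul p q => simp
    | add p q hp hq => simp only [map_add, hp, hq]
  exact ⟨f.comp ((AlgHom.id k A).codRestrict _ htop)⟩

end TorsorAlg

end Groth.Agent.HopfPt96
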