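import Mathlib.CategoryTheory.Monoidal.Cartesian.Basic
import Mathlib.CategoryTheory.Monoidal.Mon

/-!
Pulling an action back along a fully faithful monoidal functor.
-/

universe v₁ v₂ u₁ u₂

open CategoryTheory MonoidalCategory CartesianMonoidalCategory

set_option autoImplicit false

namespace Groth.Agent.HopfPt96

variable {C : Type u₁} [Category.{v₁} C] [CartesianMonoidalCategory C]
  {D : Type u₂} [Category.{v₂} D] [CartesianMonoidalCategory D]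

theorem exists_pullback_action (F : C ⥤ D) [F.Monoidal] [F.Full] [F.Faithful]
    {G₀ X₀ : C} (m₀ : G₀ ⊗ G₀ ⟶ G₀) {G X : D} (m : G ⊗ G ⟶ G) (a : G ⊗ X ⟶ X)
    (ha : (m ▷ X) ≫ a = (α_ G G X).hom ≫ (G ◁ a) ≫ a) (hiso : IsIso (lift a (snd G X)))
    (ψ : F.obj G₀ ≅ G) (hψ : (Functor.LaxMonoidal.μ F G₀ G₀ ≫ F.map m₀) ≫ ψ.hom = (ψ.hom ⊗ₘ ψ.hom) ≫ m)
    (χ : F.obj X₀ ≅ X) :
    ∃ ρ : G₀ ⊗ X₀ ⟶ X₀, (m₀ ▷ X₀) ≫ ρ = (α_ G₀ G₀ X₀).hom ≫ (G₀ ◁ ρ) ≫ ρ ∧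
      IsIso (lift ρ (snd G₀ X₀)) := by
  let a' : F.obj G₀ ⊗ F.obj X₀ ⟶ F.obj X₀ := (ψ.hom ⊗ₘ χ.hom) ≫ a ≫ χ.inv
  let ρ : G₀ ⊗ X₀ ⟶ X₀ := F.preimage (Functor.OplaxMonoidal.δ F G₀ X₀ ≫ a')
  have hρ : Functor.LaxMonoidal.μ F G₀ X₀ ≫ F.map ρ = a' := by
    simp [ρ]
  have ha' : ((Functor.LaxMonoidal.μ F G₀ G₀ ≫ F.map m₀) ▷ F.obj X₀) ≫ a' =
      (α_ _ _ _).hom ≫ (F.obj G₀ ◁ a') ≫ a' := by
    have h1 : ((Functor.LaxMonoidal.μ F G₀ G₀ ≫ F.map m₀) ▷ F.obj X₀) ≫ (ψ.hom ⊗ₘ χ.hom) =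
        ((ψ.hom ⊗ₘ ψ.hom) ⊗ₘ χ.hom) ≫ (m ▷ X) := by
      rw [← tensorHom_id, ← tensorHom_id, tensorHom_comp_tensorHom, tensorHom_comp_tensorHom, hψ,
        Category.id_comp, Category.comp_id]
    have h2 : (F.obj G₀ ◁ a') ≫ (ψ.hom ⊗ₘ χ.hom) = (ψ.hom ⊗ₘ (ψ.hom ⊗ₘ χ.hom)) ≫ (G ◁ a) := by
      rw [← id_tensorHom, ← id_tensorHom, tensorHom_comp_tensorHom, tensorHom_comp_tensorHom,
        Category.id_comp, Category.comp_id]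
      simp [a']
    calc ((Functor.LaxMonoidal.μ F G₀ G₀ ≫ F.map m₀) ▷ F.obj X₀) ≫ a'
        = ((ψ.hom ⊗ₘ ψ.hom) ⊗ₘ χ.hom) ≫ (m ▷ X) ≫ a ≫ χ.inv := by
          rw [show a' = (ψ.hom ⊗ₘ χ.hom) ≫ a ≫ χ.inv from rfl, reassoc_of% h1]
      _ = ((ψ.hom ⊗ₘ ψ.hom) ⊗ₘ χ.hom) ≫ (α_ G G X).hom ≫ (G ◁ a) ≫ a ≫ χ.inv := by
        rw [reassoc_of% ha]
      _ = (α_ _ _ _).hom ≫ (ψ.hom ⊗ₘ (ψ.hom ⊗ₘ χ.hom)) ≫ (G ◁ a) ≫ a ≫ χ.inv :=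
        associator_naturality_assoc _ _ _ _
      _ = (α_ _ _ _).hom ≫ (F.obj G₀ ◁ a') ≫ a' := by
        rw [← reassoc_of% h2]
  refine ⟨ρ, F.map_injective ?_, ?_⟩
  · rw [← cancel_epi ((Functor.LaxMonoidal.μ F G₀ G₀ ▷ F.obj X₀) ≫ Functor.LaxMonoidal.μ F (G₀ ⊗ G₀) X₀)]
    simp only [Category.assoc, F.map_comp]
    rw [← Functor.LaxMonoidal.μ_natural_left_assoc, hρ, ← comp_whiskerRight_assoc, ha',
      Functor.LaxMonoidal.associativity_assoc, ← Functor.LaxMonoidal.μ_natural_right_assoc, hρ,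
      ← MonoidalCategory.whiskerLeft_comp_assoc, hρ]
  · have h1 : lift a' (snd (F.obj G₀) (F.obj X₀)) =
        (ψ.hom ⊗ₘ χ.hom) ≫ lift a (snd G X) ≫ (χ.inv ⊗ₘ χ.inv) := by
      rw [lift_map, comp_lift]
      simp [a']
    have : IsIso (lift a' (snd (F.obj G₀) (F.obj X₀))) := by
      rw [h1]; infer_instance
    have h2 : Functor.LaxMonoidal.μ F G₀ X₀ ≫ F.map (lift ρ (snd G₀ X₀)) ≫
        Functor.OplaxMonoidal.δ F X₀ X₀ = lift a' (snd (F.obj G₀) (F.obj X₀)) := by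
      apply CartesianMonoidalCategory.hom_ext
      · simp [Category.assoc, Functor.OplaxMonoidal.δ_fst, ← F.map_comp, hρ]
      · simp [Category.assoc, Functor.OplaxMonoidal.δ_snd, ← F.map_comp]
    have : IsIso (F.map (lift ρ (snd G₀ X₀))) := by
      have h3 : F.map (lift ρ (snd G₀ X₀)) = Functor.OplaxMonoidal.δ F G₀ X₀ ≫
          lift a' (snd (F.obj G₀) (F.obj X₀)) ≫ Functor.LaxMonoidal.μ F X₀ X₀ := by
        rw [← h2, Category.assoc, Category.assoc, Functor.Monoidal.δ_μ, Category.comp_id,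
          Functor.Monoidal.δ_μ_assoc]
      rw [h3]; infer_instance
    exact isIso_of_reflects_iso _ F

end Groth.Agent.HopfPt96
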