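import Groth.Prelude.Def_NonAbH2
import Groth.Agent.Sga84.TorsorDesc
import Groth.Agent.HopfPt96.Coaction
import Groth.Agent.HopfPt96.Transport
import Mathlib.AlgebraicGeometry.Group.Affine

/-!
Torsors under affine group schemes over an algebraically closed field have rational points.
-/

universe u

open CategoryTheory CategoryTheory.Limits MonoidalCategory CartesianMonoidalCategory AlgebraicGeometry
open Opposite

set_option autoImplicit false

noncomputable section

namespace Groth.Agent.HopfPt96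

variable {k : Type u} [Field k]

theorem exists_algSpec_iso (X : Over (Spec (CommRingCat.of k))) [IsAffine X.left] :
    ∃ A : CommAlgCat.{u} (CommRingCat.of k), Nonempty ((algSpec (CommRingCat.of k)).obj (op A) ≅ X) := by
  let f : CommRingCat.of k ⟶ Γ(X.left, ⊤) := Spec.preimage (X.left.isoSpec.inv ≫ X.hom)
  letI : Algebra k Γ(X.left, ⊤) := f.hom.toAlgebra
  refine ⟨CommAlgCat.of (CommRingCat.of k) Γ(X.left, ⊤), ⟨Over.isoMk X.left.isoSpec.symm ?_⟩⟩
  show X.left.isoSpec.inv ≫ X.hom = Spec.map (CommRingCat.ofHom f.hom)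
  exact (Spec.map_preimage _).symm

/-- An affine torsor gives a torsor comodule algebra. -/
theorem exists_coaction {R : CommRingCat.{u}} (G P : Over (Spec R)) [GrpObj G] [IsAffine G.left]
    (A : CommAlgCat.{u} R) (χ : (algSpec R).obj (op A) ≅ P) (a : AlgGrp.Action G P)
    (ha : NonAbH1.IsPseudoTorsorSch a) :
    ∃ (H : CommHopfAlgCat.{u} R) (ρ : A →ₐ[R] TensorProduct R H A),
      (∀ x, Algebra.TensorProduct.map (AlgHom.id R H) ρ (ρ x) =
        Algebra.TensorProduct.assoc R R R H H A
          (Algebra.TensorProduct.map (Bialgebra.comulAlgHom R H) (AlgHom.id R A) (ρ x))) ∧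
      Function.Bijective (Algebra.TensorProduct.productMap ρ Algebra.TensorProduct.includeRight) := by
  obtain ⟨Hop, ⟨e⟩⟩ := (essImage_hopfSpec (G := Grp.mk G)).2 ‹_›
  let G₀ := (commHopfAlgCatEquivCogrpCommAlgCat R).functor.leftOp.obj Hop
  let ψ : (algSpec R).obj G₀.X ≅ G := (Grp.forget _).mapIso e
  have hψ : (Functor.LaxMonoidal.μ (algSpec R) G₀.X G₀.X ≫
      (algSpec R).map (MonObj.mul : G₀.X ⊗ G₀.X ⟶ G₀.X)) ≫ ψ.hom =
      (ψ.hom ⊗ₘ ψ.hom) ≫ (MonObj.mul : G ⊗ G ⟶ G) :=
    IsMonHom.mul_hom e.hom.hom.hom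
  obtain ⟨ρ, hρ, hρiso⟩ := exists_pullback_action (algSpec R)
    (MonObj.mul : G₀.X ⊗ G₀.X ⟶ G₀.X) (MonObj.mul : G ⊗ G ⟶ G) a.act a.mul_act ha ψ hψ χ
  refine ⟨Hop.unop, ρ.unop.hom, fun x => ?_, ?_⟩
  · have h := DFunLike.congr_fun (congrArg (fun t => t.unop.hom) hρ) x
    change Algebra.TensorProduct.map (Bialgebra.comulAlgHom R Hop.unop) (AlgHom.id R A) (ρ.unop.hom x) =
      (Algebra.TensorProduct.assoc R R R Hop.unop Hop.unop A).symm
        (Algebra.TensorProduct.map (AlgHom.id R Hop.unop) ρ.unop.hom (ρ.unop.hom x)) at h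
    exact ((congrArg (Algebra.TensorProduct.assoc R R R Hop.unop Hop.unop A) h).trans
      (AlgEquiv.apply_symm_apply _ _)).symm
  · have : IsIso (lift ρ (snd G₀.X (op A))).unop := isIso_unop _
    have hb := ConcreteCategory.bijective_of_isIso (lift ρ (snd G₀.X (op A))).unop
    exact hb

set_option backward.isDefEq.respectTransparency.types false in
/-- A torsor under an affine group scheme over an algebraically closed field has a section. -/
theorem exists_section [IsAlgClosed k] (G : Over (Spec (CommRingCat.of k))) [GrpObj G] [IsAffine G.left]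
    (P : Over (Spec (CommRingCat.of k))) (a : AlgGrp.Action G P)
    (hP : NonAbH1.IsTorsorFor Scheme.fpqcPrecoverage a) :
    Nonempty (𝟙_ (Over (Spec (CommRingCat.of k))) ⟶ P) := by
  have := Unr55.isAffineHom.{u}
  have : IsAffineHom G.hom := isAffineHom_of_isAffine _
  have : IsAffineHom P.hom := Sga84.hom_of_isTorsorFor @IsAffineHom this hP
  have : IsAffine P.left := isAffine_of_isAffineHom P.hom
  obtain ⟨A, ⟨χ⟩⟩ := exists_algSpec_iso P
  obtain ⟨H, ρ, hco, hbij⟩ := exists_coaction G P A χ a hP.1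
  let T : TorsorAlg k H A := ⟨ρ, hco, hbij⟩
  have hsurj : Surjective P.hom := Sga84.surjective_of_isLocallyTrivialFor hP.2
  obtain ⟨p, -⟩ := hsurj.surj (IsLocalRing.closedPoint k)
  have : Nontrivial A := by
    let q : ((algSpec (CommRingCat.of k)).obj (op A)).left := χ.inv.left p
    exact PrimeSpectrum.nontrivial (show PrimeSpectrum A from q)
  obtain ⟨g⟩ := T.exists_point
  refine ⟨Over.homMk (V := (algSpec (CommRingCat.of k)).obj (op A)) (Spec.map (CommRingCat.ofHom g.toRingHom)) ?_ ≫ χ.hom⟩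
  show Spec.map (CommRingCat.ofHom g.toRingHom) ≫ Spec.map (CommRingCat.ofHom (algebraMap k A)) = 𝟙 _
  rw [← Spec.map_comp, ← CommRingCat.ofHom_comp,
    show g.toRingHom.comp (algebraMap k A) = RingHom.id k from g.comp_algebraMap]
  exact Spec.map_id _

end Groth.Agent.HopfPt96
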