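import Groth.Agent.Comod33.HopfFlat
import Groth.Agent.Comod33.SubHopf
import Groth.Agent.Comod33.CartierReduced
import Groth.Agent.Comod33.Points
import Groth.Agent.Comod33.Socle
import Groth.Agent.SGA3a.HopfFG
import Mathlib.RingTheory.Jacobson.Ring

/-!
Rational points of commutative Hopf algebras over an algebraically closed field, without finiteness:
every point of a Hopf subalgebra extends, so points detect non-nilpotent functions.
-/

universe u v w

open TensorProduct

set_option autoImplicit false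

noncomputable section

namespace Groth.Agent.HopfPt96

open Groth.Agent.Comod33 Groth.Agent.Comod33.SubHopf

variable {k : Type u} [Field k] {A : Type v} [CommRing A] [HopfAlgebra k A]

theorem range_mono {B B' : Subalgebra k A} (h : B ≤ B') :
    (val₂ B).range ≤ (val₂ B').range := by
  rintro _ ⟨z, rfl⟩
  refine ⟨Algebra.TensorProduct.map (Subalgebra.inclusion h) (Subalgebra.inclusion h) z, ?_⟩
  induction z with
  | zero => simp
  | tmul p q => simp
  | add p q hp hq => simp only [map_add, hp, hq]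

theorem isSubHopf_iff_range (B : Subalgebra k A) :
    IsSubHopf B ↔ (∀ b ∈ B, Bialgebra.comulAlgHom k A b ∈ (val₂ B).range) ∧
      ∀ b ∈ B, HopfAlgebra.antipodeAlgHom k A b ∈ B := Iff.rfl

theorem isSubHopf_iSup {ι : Sort*} (B : ι → Subalgebra k A) (hB : ∀ i, IsSubHopf (B i)) :
    IsSubHopf (⨆ i, B i) := by
  rw [isSubHopf_iff_range]
  constructor
  · have : (⨆ i, B i) ≤ (val₂ (⨆ i, B i)).range.comap (Bialgebra.comulAlgHom k A) :=
      iSup_le fun i b hb =>
        range_mono (le_iSup B i) (((isSubHopf_iff_range (B i)).1 (hB i)).1 b hb)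
    exact this
  · have : (⨆ i, B i) ≤ (⨆ i, B i).comap (HopfAlgebra.antipodeAlgHom k A) :=
      iSup_le fun i b hb => le_iSup B i (((isSubHopf_iff_range (B i)).1 (hB i)).2 b hb)
    exact this

theorem isSubHopf_sup {B C : Subalgebra k A} (hB : IsSubHopf B) (hC : IsSubHopf C) :
    IsSubHopf (B ⊔ C) := by
  rw [sup_eq_iSup]
  exact isSubHopf_iSup _ fun b => by cases b <;> assumption

/-- A nonzero finitely generated algebra over an algebraically closed field has a point. -/
theorem exists_point {K : Type u} [Field K] [IsAlgClosed K] (S : Type v) [CommRing S] [Algebra K S]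
    [Algebra.FiniteType K S] [Nontrivial S] : Nonempty (S →ₐ[K] K) := by
  obtain ⟨J, hJ⟩ := Ideal.exists_maximal S
  let : Field (S ⧸ J) := Ideal.Quotient.field J
  have : Module.Finite K (S ⧸ J) := finite_of_finite_type_of_isJacobsonRing K (S ⧸ J)
  let e := AlgEquiv.ofBijective (Algebra.ofId K (S ⧸ J))
    IsAlgClosed.algebraMap_bijective_of_isIntegral
  exact ⟨(e.symm : (S ⧸ J) →ₐ[K] K).comp (Ideal.Quotient.mkₐ K J)⟩

/-- A proper ideal containing the relations of a point, in an algebra finitely generated over the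
scalars of that point, has a point. -/
theorem exists_point_of_span {K : Type u} [Field K] [IsAlgClosed K] {S : Type v} [CommRing S]
    [Algebra K S] {B : Subalgebra K S} (g : B →ₐ[K] K) (t : Set S) (ht : t.Finite)
    (hgen : B ⊔ Algebra.adjoin K t = ⊤) (hne : (RingHom.ker g).map B.val ≠ ⊤) :
    ∃ h : S →ₐ[K] K, h.comp B.val = g := by
  let J : Ideal S := (RingHom.ker g).map B.val
  let π : S →ₐ[K] S ⧸ J := Ideal.Quotient.mkₐ K J
  have hπB : ∀ b : B, π b = algebraMap K (S ⧸ J) (g b) := by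
    intro b
    have h1 : b - algebraMap K B (g b) ∈ RingHom.ker g := by
      show g (b - algebraMap K B (g b)) = 0
      simp
    have h2 : π ((b - algebraMap K B (g b) : B) : S) = 0 :=
      Ideal.Quotient.eq_zero_iff_mem.mpr (Ideal.mem_map_of_mem B.val h1)
    rwa [Subalgebra.coe_sub, map_sub, Subalgebra.coe_algebraMap, AlgHom.commutes, sub_eq_zero] at h2
  have : Nontrivial (S ⧸ J) := Ideal.Quotient.nontrivial_iff.mpr hne
  have : Algebra.FiniteType K (S ⧸ J) := by
    refine ⟨Subalgebra.fg_def.2 ⟨π '' t, ht.image _, ?_⟩⟩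
    rw [eq_top_iff]
    intro r _
    obtain ⟨z, rfl⟩ := Ideal.Quotient.mkₐ_surjective K J r
    have key : B ⊔ Algebra.adjoin K t ≤ (Algebra.adjoin K (π '' t)).comap π := by
      refine sup_le (fun b hb => ?_) (Algebra.adjoin_le_iff.2 fun x hx => ?_)
      · show π b ∈ Algebra.adjoin K (π '' t)
        rw [hπB ⟨b, hb⟩]
        exact Subalgebra.algebraMap_mem _ _
      · exact Algebra.subset_adjoin ⟨x, hx, rfl⟩
    exact key (hgen ▸ Algebra.mem_top)
  obtain ⟨ψ⟩ := exists_point (K := K) (S ⧸ J)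
  exact ⟨ψ.comp π, AlgHom.ext fun b => by
    show ψ (π b) = g b
    rw [hπB, AlgHom.commutes]
    rfl⟩

/-- A point of a Hopf subalgebra extends to any larger subalgebra finitely generated over it. -/
theorem exists_extend_sup [IsAlgClosed k] {B C : Subalgebra k A} (hB : IsSubHopf B) (hC : C.FG)
    (g : B →ₐ[k] k) : ∃ g' : ↥(B ⊔ C) →ₐ[k] k, ∀ b : B,
      g' ⟨b, le_sup_left (a := B) (b := C) b.2⟩ = g b := by
  have : Module.FaithfullyFlat B A := HopfFlat.faithfullyFlat_of_isSubHopf hB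
  let ι := (B ⊔ C).val
  let B' : Subalgebra k ↥(B ⊔ C) := B.comap ι
  let e : B' →ₐ[k] B := (ι.comp B'.val).codRestrict B fun b => b.2
  let g₁ : B' →ₐ[k] k := g.comp e
  obtain ⟨t, ht⟩ := hC
  have hne : (RingHom.ker g₁).map B'.val ≠ ⊤ := by
    intro hJ
    have h1 : (RingHom.ker g).map (algebraMap B A) = ⊤ := by
      rw [← top_le_iff, ← Ideal.map_top ι, ← hJ, Ideal.map_le_iff_le_comap, Ideal.map_le_iff_le_comap]
      intro b hb
      exact Ideal.mem_map_of_mem (algebraMap B A) (show e b ∈ RingHom.ker g from hb)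
    have h2 := Ideal.comap_map_eq_self_of_faithfullyFlat (B := A) (RingHom.ker g)
    rw [h1, Ideal.comap_top] at h2
    exact (RingHom.ker_isPrime g).ne_top h2.symm
  have hgen : B' ⊔ Algebra.adjoin k (Subtype.val ⁻¹' (t : Set A) : Set ↥(B ⊔ C)) = ⊤ := by
    apply Subalgebra.map_injective (f := ι) Subtype.val_injective
    rw [Algebra.map_sup, AlgHom.map_adjoin, Algebra.map_top]
    show Subalgebra.map ι (B.comap ι) ⊔ Algebra.adjoin k (Subtype.val '' _) = ι.range
    rw [Subalgebra.range_val, Set.image_preimage_eq_inter_range,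
      show Set.range (Subtype.val : ↥(B ⊔ C) → A) = ↑(B ⊔ C) from Subtype.range_val, Set.inter_comm]
    have e1 : Subalgebra.map ι (B.comap ι) = B := by
      ext x
      exact ⟨fun ⟨y, hy, hyx⟩ => hyx ▸ hy, fun hx => ⟨⟨x, le_sup_left (a := B) (b := C) hx⟩, hx, rfl⟩⟩
    rw [e1, Set.inter_eq_right.2 (show (t : Set A) ⊆ ↑(B ⊔ C) from fun x hx =>
      le_sup_right (a := B) (b := C) (ht ▸ Algebra.subset_adjoin hx)), ht]
  obtain ⟨h, hh⟩ := exists_point_of_span g₁ _
    (t.finite_toSet.preimage Subtype.val_injective.injOn) hgen hne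
  exact ⟨h, fun b => DFunLike.congr_fun hh ⟨⟨b, le_sup_left (a := B) (b := C) b.2⟩, b.2⟩⟩

/-- A partially defined point. -/
structure Partial (k : Type u) [Field k] (A : Type v) [CommRing A] [HopfAlgebra k A] where
  /-- the domain -/
  D : Subalgebra k A
  /-- the point -/
  d : D →ₐ[k] k
  isSub : IsSubHopf D

/-- extension of partial points -/
def PLe (p q : Partial k A) : Prop :=
  ∃ h : p.D ≤ q.D, q.d.comp (Subalgebra.inclusion h) = p.d

theorem PLe.trans {p q s : Partial k A} : PLe p q → PLe q s → PLe p s := by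
  rintro ⟨h, e⟩ ⟨h', e'⟩
  refine ⟨h.trans h', ?_⟩
  rw [← e, ← e']
  rfl

theorem exists_upper (c : Set (Partial k A)) (hc : IsChain PLe c) (hne : c.Nonempty) :
    ∃ u : Partial k A, ∀ p ∈ c, PLe p u := by
  have : Nonempty c := hne.to_subtype
  have hdir : Directed (· ≤ ·) (fun p : c => p.1.D) := by
    intro p q
    rcases eq_or_ne p q with rfl | hpq
    · exact ⟨p, le_rfl, le_rfl⟩
    rcases hc p.2 q.2 (fun e => hpq (Subtype.ext e)) with ⟨h, -⟩ | ⟨h, -⟩
    · exact ⟨q, h, le_rfl⟩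
    · exact ⟨p, le_rfl, h⟩
  have hagree : ∀ (p q : c) (h : p.1.D ≤ q.1.D),
      p.1.d = q.1.d.comp (Subalgebra.inclusion h) := by
    intro p q h
    rcases eq_or_ne p q with rfl | hpq
    · rfl
    rcases hc p.2 q.2 (fun e => hpq (Subtype.ext e)) with ⟨h', e⟩ | ⟨h', e⟩
    · exact e.symm
    · ext z
      rw [← e]
      rfl
  let f : ↥(⨆ p : c, p.1.D) →ₐ[k] k :=
    Subalgebra.iSupLift (fun p : c => p.1.D) hdir (fun p => p.1.d) hagree _ le_rfl
  refine ⟨⟨_, f, isSubHopf_iSup _ fun p : c => p.1.isSub⟩, fun p hp =>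
    ⟨le_iSup (fun p : c => p.1.D) ⟨p, hp⟩, AlgHom.ext fun z => ?_⟩⟩
  exact Subalgebra.iSupLift_inclusion (R := k) (A := A) (B := k) (K := fun p : c => p.1.D) (dir := hdir) (f := fun p : c => p.1.d) (hf := hagree) (hT := le_rfl)
    (i := ⟨p, hp⟩) z (le_iSup (fun p : c => p.1.D) ⟨p, hp⟩)

/-- Every point of a Hopf subalgebra extends to the whole Hopf algebra. -/
theorem exists_point_extend [IsAlgClosed k] {B : Subalgebra k A} (hB : IsSubHopf B)
    (g : B →ₐ[k] k) : ∃ h : A →ₐ[k] k, h.comp B.val = g := by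
  let p₀ : Partial k A := ⟨B, g, hB⟩
  obtain ⟨⟨⟨D, d, hD⟩, hBD⟩, hmax⟩ := exists_maximal_of_chains_bounded
    (r := fun p q : {p : Partial k A // PLe p₀ p} => PLe p.1 q.1) (fun c hc => by
      rcases c.eq_empty_or_nonempty with rfl | hne
      · exact ⟨⟨p₀, le_rfl, rfl⟩, fun a ha => ha.elim⟩
      · obtain ⟨u, hu⟩ := exists_upper (Subtype.val '' c)
          (fun _ ⟨a, ha, hax⟩ _ ⟨b, hb, hby⟩ hxy => hax ▸ hby ▸ hc ha hb (fun e => hxy (by rw [← hax, ← hby, e])))
          (hne.image _)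
        obtain ⟨p₁, hp₁⟩ := hne
        exact ⟨⟨u, p₁.2.trans (hu _ ⟨p₁, hp₁, rfl⟩)⟩, fun a ha => hu _ ⟨a, ha, rfl⟩⟩)
    (fun h h' => h.trans h')
  have hDtop : D = ⊤ := by
    rw [eq_top_iff]
    intro a _
    obtain ⟨C, hC, hCfg, hC1, hC2⟩ := SGA3a.exists_fg_hopfSubalgebra (k := k) ({a} : Finset A)
    obtain ⟨d', hd'⟩ := exists_extend_sup hD hCfg d
    let q : Partial k A := ⟨D ⊔ C, d', isSubHopf_sup hD ⟨hC1, hC2⟩⟩
    have hDq : PLe ⟨D, d, hD⟩ q := ⟨le_sup_left, AlgHom.ext hd'⟩
    obtain ⟨hle, -⟩ := hmax ⟨q, hBD.trans hDq⟩ hDq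
    exact hle (le_sup_right (a := D) (b := C) (hC (by simp)))
  subst hDtop
  obtain ⟨hle, e⟩ := hBD
  exact ⟨d.comp (Subalgebra.topEquiv (R := k) (A := A)).symm.toAlgHom, by
    rw [show g = p₀.d from rfl, ← e]; rfl⟩

/-- Points detect non-nilpotent elements. -/
theorem exists_point_apply_ne_zero [IsAlgClosed k] {a : A} (ha : ¬ IsNilpotent a) :
    ∃ g : A →ₐ[k] k, g a ≠ 0 := by
  obtain ⟨C, hC, hCfg, hC1, hC2⟩ := SGA3a.exists_fg_hopfSubalgebra (k := k) ({a} : Finset A)
  have : Algebra.FiniteType k C := ⟨(Subalgebra.fg_top C).2 hCfg⟩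
  let a' : C := ⟨a, hC (by simp)⟩
  have : Nontrivial (Localization.Away a') := by
    rw [← not_subsingleton_iff_nontrivial,
      IsLocalization.subsingleton_iff (M := Submonoid.powers a') (S := Localization.Away a')]
    rintro ⟨n, hn⟩
    exact ha ⟨n, congrArg Subtype.val hn⟩
  have : Algebra.FiniteType C (Localization.Away a') := inferInstance
  have : Algebra.FiniteType k (Localization.Away a') := Algebra.FiniteType.trans (S := C) inferInstance inferInstance
  obtain ⟨ψ⟩ := exists_point (K := k) (Localization.Away a')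
  obtain ⟨h, hh⟩ := exists_point_extend ⟨hC1, hC2⟩
    (ψ.comp (IsScalarTower.toAlgHom k C (Localization.Away a')))
  refine ⟨h, fun h0 => ?_⟩
  have hu : IsUnit (ψ (algebraMap C (Localization.Away a') a')) :=
    (IsLocalization.Away.algebraMap_isUnit a').map ψ
  exact hu.ne_zero ((DFunLike.congr_fun hh a').symm.trans h0)

/-- In characteristic zero points separate elements. -/
theorem eq_zero_of_forall_point [IsAlgClosed k] [CharZero k] {a : A}
    (h : ∀ g : A →ₐ[k] k, g a = 0) : a = 0 := by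
  obtain ⟨C, hC, hCfg, hC1, hC2⟩ := SGA3a.exists_fg_hopfSubalgebra (k := k) ({a} : Finset A)
  have hn : IsNilpotent a := by
    by_contra hn
    obtain ⟨g, hg⟩ := exists_point_apply_ne_zero (k := k) hn
    exact hg (h g)
  have : Algebra.FiniteType k C := ⟨(Subalgebra.fg_top C).2 hCfg⟩
  letI := SubHopf.hopfAlgebra (⟨hC1, hC2⟩ : IsSubHopf C)
  have := Comod33.Aug.isReduced_of_charZero (k := k) (A := C)
  obtain ⟨N, hN⟩ := hn
  have h0 : (⟨a, hC (by simp)⟩ : C) = 0 := IsReduced.eq_zero _ ⟨N, Subtype.ext (by simp [hN])⟩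
  exact congrArg Subtype.val h0

/-- A subspace stable under all rational points is a subcomodule. -/
theorem isSubcomod_of_stable [IsAlgClosed k] [CharZero k] {V : Type w} [AddCommGroup V] [Module k V]
    [HopfRep.Comod k A V] (W : Submodule k V)
    (hW : ∀ g : A →ₐ[k] k, W.map (HopfRep.Comod.act k A V g) ≤ W) :
    HopfRep.IsSubcomod (k := k) (A := A) W := by
  intro v hv
  rw [mem_range_iff_mkQ]
  refine eq_of_lc fun φ => ?_
  rw [map_zero]
  refine eq_zero_of_forall_point (k := k) fun g => ?_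
  show g.toLinearMap (lc φ _) = 0
  rw [apply_lc, rc_rTensor, ← dact_apply, ← act_eq_dact, Submodule.mkQ_apply,
    (Submodule.Quotient.mk_eq_zero W).2 (hW g ⟨v, hv, rfl⟩), map_zero]

end Groth.Agent.HopfPt96
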