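import Groth.Agent.HopfPt96.Extend
import Mathlib.AlgebraicGeometry.Group.Affine

/-!
Rational points of affine group schemes over an algebraically closed field, without finiteness.
-/

universe u

open CategoryTheory CategoryTheory.Limits MonoidalCategory CartesianMonoidalCategory MonObj GrpObj AlgebraicGeometry
open Opposite

set_option autoImplicit false

noncomputable section

namespace Groth.Agent.HopfPt96

variable {k : Type u} [Field k]

/-- the point of a spectrum given by an algebra map to the base field -/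
def specPt (H : CommHopfAlgCat.{u} (CommRingCat.of k)) (g : H →ₐ[k] k) :
    Spec (CommRingCat.of k) ⟶ ((hopfSpec (CommRingCat.of k)).obj (op H)).X.left :=
  Spec.map (CommRingCat.ofHom g.toRingHom)

theorem specPt_hom (H : CommHopfAlgCat.{u} (CommRingCat.of k)) (g : H →ₐ[k] k) :
    specPt H g ≫ ((hopfSpec (CommRingCat.of k)).obj (op H)).X.hom = 𝟙 _ := by
  show Spec.map (CommRingCat.ofHom g.toRingHom) ≫ Spec.map (CommRingCat.ofHom (algebraMap k H)) = _
  rw [← Spec.map_comp, ← CommRingCat.ofHom_comp,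
    show g.toRingHom.comp (algebraMap k H) = RingHom.id k from g.comp_algebraMap]
  exact Spec.map_id _

variable [IsAlgClosed k]

/-- Rational points are dense in an affine group scheme over an algebraically closed field. -/
theorem dense_points (G : Over (Spec (CommRingCat.of k))) [GrpObj G] [IsAffine G.left] :
    Dense {x : ↥G.left | ∃ g : 𝟙_ (Over (Spec (CommRingCat.of k))) ⟶ G,
      g.left.base (IsLocalRing.closedPoint k) = x} := by
  obtain ⟨Hop, ⟨e⟩⟩ := (essImage_hopfSpec (G := Grp.mk G)).2 ‹_›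
  let H := Hop.unop
  let ψ : ((hopfSpec (CommRingCat.of k)).obj Hop).X ≅ G := (Grp.forget _).mapIso e
  let S : Scheme.{u} := Spec (CommRingCat.of H)
  let φ : S ≅ G.left := (Over.forget _).mapIso ψ
  have hS : Dense {y : S | ∃ g : H →ₐ[k] k, y = specPt H g (IsLocalRing.closedPoint k)} := by
    rw [dense_iff_inter_open]
    intro U hU ⟨p, hp⟩
    obtain ⟨_, ⟨a, rfl⟩, hpa, haU⟩ :=
      PrimeSpectrum.isTopologicalBasis_basic_opens.exists_subset_of_mem_open hp hU
    have ha : ¬ IsNilpotent a := fun hn => by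
      have hp' : (PrimeSpectrum.asIdeal p).IsPrime := PrimeSpectrum.isPrime p
      have : a ∈ PrimeSpectrum.asIdeal p := nilradical_le_prime _ hn
      exact hpa this
    obtain ⟨g, hg⟩ := exists_point_apply_ne_zero (k := k) ha
    refine ⟨_, haU ?_, g, rfl⟩
    show a ∉ Ideal.comap g.toRingHom (IsLocalRing.maximalIdeal k)
    rw [Ideal.mem_comap, IsLocalRing.maximalIdeal_eq_bot]
    exact fun h => hg h
  refine (DenseRange.dense_image φ.hom.homeomorph.surjective.denseRange
    φ.hom.homeomorph.continuous hS).mono ?_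
  rintro _ ⟨_, ⟨g, rfl⟩, rfl⟩
  exact ⟨Over.homMk (specPt H g) (specPt_hom H g) ≫ ψ.hom, rfl⟩

/-- Surjective homomorphisms of affine group schemes are surjective on rational points. -/
theorem points_surjective (G G' : Over (Spec (CommRingCat.of k))) [GrpObj G] [GrpObj G']
    [IsAffine G.left] [IsAffine G'.left] (h : G ⟶ G') [IsMonHom h] (hs : Surjective h.left)
    (x : 𝟙_ (Over (Spec (CommRingCat.of k))) ⟶ G') :
    ∃ g : 𝟙_ (Over (Spec (CommRingCat.of k))) ⟶ G, g ≫ h = x := by
  obtain ⟨Hop, ⟨e⟩⟩ := (essImage_hopfSpec (G := Grp.mk G)).2 ‹_›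
  obtain ⟨Hop', ⟨e'⟩⟩ := (essImage_hopfSpec (G := Grp.mk G')).2 ‹_›
  let hG : Grp.mk G ⟶ Grp.mk G' := Grp.homMk h
  let F := hopfSpec.fullyFaithful.preimage (e.hom ≫ hG ≫ e'.inv)
  have hF : (hopfSpec (CommRingCat.of k)).map F = e.hom ≫ hG ≫ e'.inv :=
    hopfSpec.fullyFaithful.map_preimage _
  let ψ : ((hopfSpec (CommRingCat.of k)).obj Hop).X ≅ G := (Grp.forget _).mapIso e
  let ψ' : ((hopfSpec (CommRingCat.of k)).obj Hop').X ≅ G' := (Grp.forget _).mapIso e'
  let Fm : ((hopfSpec (CommRingCat.of k)).obj Hop).X ⟶ ((hopfSpec (CommRingCat.of k)).obj Hop').X :=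
    (Grp.forget _).map ((hopfSpec (CommRingCat.of k)).map F)
  have hF' : Fm = ψ.hom ≫ h ≫ ψ'.inv := by
    show (Grp.forget _).map ((hopfSpec (CommRingCat.of k)).map F) = _
    rw [hF]; rfl
  let φ : Hop'.unop →ₐc[k] Hop.unop := F.unop.hom
  have hFleft : Fm.left =
      Spec.map (CommRingCat.ofHom (φ : Hop'.unop →ₐ[k] Hop.unop).toRingHom) := rfl
  have hsurj : Surjective (Spec.map (CommRingCat.ofHom (φ : Hop'.unop →ₐ[k] Hop.unop).toRingHom)) := by
    have : IsIso ψ.hom.left := ((Over.forget _).mapIso ψ).isIso_hom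
    have : IsIso ψ'.inv.left := ((Over.forget _).mapIso ψ').isIso_inv
    rw [← hFleft, hF']
    simp only [Over.comp_left]
    exact ⟨ψ'.inv.left.homeomorph.surjective.comp (hs.surj.comp ψ.hom.left.homeomorph.surjective)⟩
  -- the point on the target
  let y : Spec (CommRingCat.of k) ⟶ Spec (CommRingCat.of Hop'.unop) :=
    (x ≫ ψ'.inv).left
  obtain ⟨r, hr⟩ : ∃ r : Hop'.unop →ₐ[k] k, specPt Hop'.unop r = y := by
    obtain ⟨f, hf⟩ := Spec.map_surjective (R := CommRingCat.of Hop'.unop) (S := CommRingCat.of k) y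
    have hw : y ≫ Spec.map (CommRingCat.ofHom (algebraMap k Hop'.unop)) = 𝟙 _ := Over.w (x ≫ ψ'.inv)
    rw [← hf, ← Spec.map_comp] at hw
    have hc : CommRingCat.ofHom (algebraMap k Hop'.unop) ≫ f = 𝟙 _ :=
      Spec.map_injective (hw.trans (Spec.map_id _).symm)
    exact ⟨⟨f.hom, fun c => congrArg (fun t => t.hom c) hc⟩, hf⟩
  -- it kills the kernel
  have hker : ∀ a, φ a = 0 → r a = 0 := by
    intro a ha
    obtain ⟨p, hp⟩ := hsurj.surj (specPt Hop'.unop r (IsLocalRing.closedPoint k))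
    have h1 : a ∈ PrimeSpectrum.asIdeal
        (Spec.map (CommRingCat.ofHom (φ : Hop'.unop →ₐ[k] Hop.unop).toRingHom) p) := by
      show (φ : Hop'.unop →ₐ[k] Hop.unop) a ∈ p.asIdeal
      rw [show (φ : Hop'.unop →ₐ[k] Hop.unop) a = φ a from rfl, ha]
      exact Ideal.zero_mem _
    rw [hp] at h1
    have h2 : a ∈ Ideal.comap r.toRingHom (IsLocalRing.maximalIdeal k) := h1
    rwa [Ideal.mem_comap, IsLocalRing.maximalIdeal_eq_bot, Ideal.mem_bot] at h2
  -- factor through the image and extend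
  let φa : Hop'.unop →ₐ[k] Hop.unop := φ
  let B := φa.range
  let r' : B →ₐ[k] k := AlgHom.liftOfSurjective φa.rangeRestrict φa.rangeRestrict_surjective r
    (fun a ha => hker a (congrArg Subtype.val ha))
  have hr' : r'.comp φa.rangeRestrict = r := AlgHom.liftOfSurjective_comp _ _ _ _
  obtain ⟨s, hs'⟩ := exists_point_extend (Comod33.HopfFlat.isSubHopf_range φ) r'
  refine ⟨Over.homMk (specPt Hop.unop s) (specPt_hom _ s) ≫ ψ.hom, ?_⟩
  rw [← cancel_mono ψ'.inv, Category.assoc, Category.assoc, ← hF']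
  apply Over.OverMorphism.ext
  show Spec.map (CommRingCat.ofHom s.toRingHom) ≫
    Spec.map (CommRingCat.ofHom φa.toRingHom) = y
  rw [← hr]
  show _ = Spec.map (CommRingCat.ofHom r.toRingHom)
  rw [← Spec.map_comp, ← CommRingCat.ofHom_comp]
  congr 2
  ext a
  have := DFunLike.congr_fun hs' (φa.rangeRestrict a)
  exact this.trans (DFunLike.congr_fun hr' a)

end Groth.Agent.HopfPt96
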